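import Cfsg.Agent.DuadCode.Stars
import Cfsg.Agent.Steiner.Transport

/-!
The Steiner system on the stars and the map of the symmetry group into the Mathieu group.
-/

set_option autoImplicit false

namespace CfsgLib.DuadCode

open Finset Cfsg
open scoped Pointwise

variable {A : Type*} [AddCommGroup A] [DecidableEq A] {S : Finset A}

/-- The blocks. -/
def blocks (o : Pt S) : Set (Finset (Pt S)) := {b | b.card = 8 ∧ val o b = 0}

variable (h : Geom S)

include h

theorem Geom.exists_pt : Nonempty (Pt S) := Fintype.card_pos_iff.1 (by rw [h.card_Pt]; norm_num)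

theorem Geom.pt_four (o : Pt S) :
    (∀ v : A, v ∉ S → v ≠ 0 → ∃ s : Finset (Pt S), s.card = 4 ∧ val o s = v) ∧
    ∀ s : Finset (Pt S), s.card = 4 → ∀ p, ∃ t : Finset (Pt S), t.card = 4 ∧ p ∈ t ∧ val o t = val o s := by
  classical
  haveI : Finite A := Nat.finite_of_card_ne_zero (by rw [h.cardA]; norm_num)
  haveI : Fintype A := Fintype.ofFinite A
  set F := (univ : Finset (Pt S)).powersetCard 4 with hF
  set T := ((univ : Finset A) \ S).erase 0 with hT
  have hTc : T.card = 1771 := by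
    rw [hT, card_erase_of_mem (mem_sdiff.2 ⟨mem_univ _, h.zero_notMem⟩),
      card_sdiff_of_subset (subset_univ _), card_univ, h.cardS, ← Nat.card_eq_fintype_card, h.cardA]
  have hmaps : ∀ s ∈ F, val o s ∈ T := fun s hs => by
    obtain ⟨h1, h2⟩ := h.val_four o (mem_powersetCard.1 hs).2
    exact mem_erase.2 ⟨h2, mem_sdiff.2 ⟨mem_univ _, h1⟩⟩
  have hdisj : ∀ v, ((F.filter fun s => val o s = v) : Set (Finset (Pt S))).PairwiseDisjoint id := by
    intro v s hs t ht hne
    rw [mem_coe, mem_filter, mem_powersetCard] at hs ht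
    show Disjoint s t
    rw [disjoint_iff_inter_eq_empty, ← card_eq_zero]
    by_contra hc
    have h1 := Steiner.card_symmDiff_inter s t
    have h2 : (symmDiff s t).card ≠ 0 := fun e => hne (symmDiff_eq_bot.1 (card_eq_zero.1 e))
    refine h.val_small o (s := symmDiff s t) (by omega) ?_
    rw [h.val_symmDiff, hs.2, ht.2, h.self]
  have hunion : ∀ v, ((F.filter fun s => val o s = v).biUnion id).card =
      (F.filter fun s => val o s = v).card * 4 := by
    intro v
    rw [card_biUnion (hdisj v)]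
    exact (sum_congr rfl (g := fun _ => 4) fun s hs => (mem_powersetCard.1 (mem_filter.1 hs).1).2).trans
      (by rw [sum_const, smul_eq_mul])
  have hle : ∀ v ∈ T, (F.filter fun s => val o s = v).card ≤ 6 := by
    intro v _
    have := card_le_univ ((F.filter fun s => val o s = v).biUnion id)
    rw [hunion, h.card_Pt] at this
    omega
  have hsum : ∑ v ∈ T, (F.filter fun s => val o s = v).card = ∑ _v ∈ T, 6 := by
    rw [← card_eq_sum_card_fiberwise hmaps, sum_const, smul_eq_mul, hTc, hF, card_powersetCard,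
      card_univ, h.card_Pt]
    rfl
  have h6 := (sum_eq_sum_iff_of_le hle).1 hsum
  refine ⟨fun v hv hv0 => ?_, fun s hs p => ?_⟩
  · obtain ⟨s, hs⟩ := card_pos.1 (by
      rw [h6 v (mem_erase.2 ⟨hv0, mem_sdiff.2 ⟨mem_univ _, hv⟩⟩)]; norm_num :
      0 < (F.filter fun s => val o s = v).card)
    exact ⟨s, (mem_powersetCard.1 (mem_filter.1 hs).1).2, (mem_filter.1 hs).2⟩
  · have hsF : s ∈ F := mem_powersetCard.2 ⟨subset_univ _, hs⟩
    have hu : (F.filter fun t => val o t = val o s).biUnion id = univ := by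
      refine eq_univ_of_card _ ?_
      rw [hunion, h6 _ (hmaps s hsF), h.card_Pt]
    have hp : p ∈ (F.filter fun t => val o t = val o s).biUnion id := hu ▸ mem_univ p
    obtain ⟨t, ht, hpt⟩ := mem_biUnion.1 hp
    exact ⟨t, (mem_powersetCard.1 (mem_filter.1 ht).1).2, hpt, (mem_filter.1 ht).2⟩

theorem Geom.steiner (o : Pt S) : IsSteinerSystem 5 8 (blocks o) := by
  refine ⟨fun b hb => hb.1, fun s hs => ?_⟩
  obtain ⟨p, hp⟩ := card_pos.1 (by omega : 0 < s.card)
  have hT : (s.erase p).card = 4 := by rw [card_erase_of_mem hp]; omega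
  obtain ⟨t, ht, hpt, hval⟩ := (h.pt_four o).2 _ hT p
  have hne : t ≠ s.erase p := fun e => notMem_erase p s (e ▸ hpt)
  have hdj : Disjoint (s.erase p) t := by
    rw [disjoint_iff_inter_eq_empty, ← card_eq_zero]
    by_contra hc
    have h1 := Steiner.card_symmDiff_inter (s.erase p) t
    have h2 : (symmDiff (s.erase p) t).card ≠ 0 :=
      fun e => hne (symmDiff_eq_bot.1 (card_eq_zero.1 e)).symm
    exact h.val_small o (s := symmDiff (s.erase p) t) (by omega)
      (by rw [h.val_symmDiff, hval, h.self])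
  refine ⟨s.erase p ∪ t, ⟨⟨?_, ?_⟩, ?_⟩, ?_⟩
  · rw [card_union_of_disjoint hdj, hT, ht]
  · rw [val, sum_union hdj]
    show val o (s.erase p) + val o t = 0
    rw [hval, h.self]
  · intro x hx
    by_cases e : x = p
    · exact mem_union_right _ (e ▸ hpt)
    · exact mem_union_left _ (mem_erase.2 ⟨e, hx⟩)
  · rintro b ⟨⟨hb8, hb0⟩, hsb⟩
    by_contra hne'
    have h1 := Steiner.card_symmDiff_inter b (s.erase p ∪ t)
    have hc8 : (s.erase p ∪ t).card = 8 := by rw [card_union_of_disjoint hdj, hT, ht]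
    have h2 : (symmDiff b (s.erase p ∪ t)).card ≠ 0 :=
      fun e => hne' (symmDiff_eq_bot.1 (card_eq_zero.1 e))
    have h3 : s ⊆ b ∩ (s.erase p ∪ t) := fun x hx => by
      refine mem_inter.2 ⟨hsb hx, ?_⟩
      by_cases e : x = p
      · exact mem_union_right _ (e ▸ hpt)
      · exact mem_union_left _ (mem_erase.2 ⟨e, hx⟩)
    have h4 := card_le_card h3
    refine h.val_small o (s := symmDiff b (s.erase p ∪ t)) (by omega) ?_
    rw [h.val_symmDiff, hb0, zero_add, val, sum_union hdj]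
    show val o (s.erase p) + val o t = 0
    rw [hval, h.self]

theorem Geom.smul_even {n : ℕ} (hn : Even n) (a : A) : n • a = 0 := by
  obtain ⟨k, rfl⟩ := hn
  rw [add_nsmul, h.self]

section Action

variable (f : A ≃+ A) (hf : ∀ a ∈ S, f a ∈ S)

include hf

theorem Geom.mem_iff (a : A) : f a ∈ S ↔ a ∈ S := by
  refine ⟨fun ha => ?_, hf a⟩
  have e : S.image f = S := eq_of_subset_of_card_le (fun x hx => by
    obtain ⟨b, hb, rfl⟩ := mem_image.1 hx
    exact hf b hb) (le_of_eq (card_image_of_injective _ f.injective).symm)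
  rw [← e] at ha
  obtain ⟨b, hb, e'⟩ := mem_image.1 ha
  rwa [← f.injective e']

theorem Geom.map_nbr (t : A) : (nbr S t).image f = nbr S (f t) := by
  ext x
  obtain ⟨y, rfl⟩ := f.surjective x
  rw [mem_image, mem_nbr, h.mem_iff f hf, ← map_add, h.mem_iff f hf]
  refine ⟨?_, fun hy => ⟨y, mem_nbr.2 hy, rfl⟩⟩
  rintro ⟨z, hz, e⟩
  rw [← f.injective e]
  exact mem_nbr.1 hz

theorem Geom.map_star (t u : A) : (star S t u).image f = star S (f t) (f u) := by
  rw [star, star, image_insert, image_insert, image_erase f.injective, image_inter _ _ f.injective,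
    h.map_nbr f hf, h.map_nbr f hf, map_add]

theorem Geom.map_pt_mem (K : Pt S) : K.1.image f ∈ stars S := by
  obtain ⟨t, ht, u, hu, e⟩ := mem_stars.1 K.2
  rw [← e, h.map_star f hf]
  refine mem_stars.2 ⟨f t, hf t ht, f u, ?_, rfl⟩
  rw [← h.map_nbr f hf]
  exact mem_image_of_mem f hu

/-- The induced map of points. -/
def Geom.mapPt (K : Pt S) : Pt S := ⟨K.1.image f, h.map_pt_mem f hf K⟩

theorem Geom.mapPt_injective : Function.Injective (h.mapPt f hf) := fun _ _ e =>
  Subtype.ext (image_injective f.injective (congrArg Subtype.val e))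

theorem Geom.map_duad (a b : Pt S) :
    duad (h.mapPt f hf a) (h.mapPt f hf b) = f (duad a b) := by
  by_cases hab : a = b
  · subst hab; rw [duad_self, duad_self, map_zero]
  rw [duad, duad, if_neg hab, if_neg fun e => hab (h.mapPt_injective f hf e), map_sum]
  show ∑ x ∈ a.1.image f ∩ b.1.image f, x = _
  rw [← image_inter _ _ f.injective, sum_image f.injective.injOn]

end Action

/-- The symmetry group of the configuration maps into the Mathieu group. -/
theorem Geom.exists_hom_label {H : Type*} [Group H] (ρ : H → A ≃+ A)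
    (hmul : ∀ g k a, ρ (g * k) a = ρ g (ρ k a)) (hone : ∀ a, ρ 1 a = a)
    (hρ : ∀ g, ∀ a ∈ S, ρ g a ∈ S) :
    ∃ (o : Pt S) (e : Pt S ≃ Cfsg.GolayPt) (φ : H →* Cfsg.M24),
      (fun b => b.image e) '' blocks o = Cfsg.octads ∧ (∀ g, φ g = 1 ↔ ∀ a, ρ g a = a) ∧
      ∀ g p q, duad (e.symm ((φ g : Equiv.Perm Cfsg.GolayPt) p)) (e.symm ((φ g : Equiv.Perm Cfsg.GolayPt) q)) =
        ρ g (duad (e.symm p) (e.symm q)) := by
  classical
  obtain ⟨o⟩ := h.exists_pt
  obtain ⟨e, he⟩ := Steiner.exists_iso24 (h.steiner o) h.card_Pt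
  let π : H → Equiv.Perm (Pt S) := fun g => Equiv.ofBijective (h.mapPt (ρ g) (hρ g))
    ((Fintype.bijective_iff_injective_and_card _).2 ⟨h.mapPt_injective _ _, rfl⟩)
  have hπ : ∀ g K, (π g K).1 = K.1.image (ρ g) := fun g K => rfl
  let πh : H →* Equiv.Perm (Pt S) :=
    { toFun := π
      map_one' := by
        refine Equiv.ext fun K => Subtype.ext ?_
        rw [hπ, show (⇑(ρ 1)) = id from funext hone, image_id]; rfl
      map_mul' := fun g k => by
        refine Equiv.ext fun K => Subtype.ext ?_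
        rw [Equiv.Perm.mul_apply, hπ, hπ, hπ, image_image]
        exact image_congr fun a _ => hmul g k a }
  have hd : ∀ g a b, duad (π g a) (π g b) = ρ g (duad a b) := fun g a b =>
    h.map_duad (ρ g) (hρ g) a b
  have haut : ∀ g, πh g ∈ setSystemAut (blocks o) := by
    intro g
    rw [Steiner.mem_aut_iff]
    rintro b ⟨hb8, hb0⟩
    refine ⟨by rw [card_image_of_injective _ (πh g).injective, hb8], ?_⟩
    have h1 : val o (b.image (πh g)) = ∑ a ∈ b, (duad o (π g o) + ρ g (duad o a)) := by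
      rw [val, sum_image (πh g).injective.injOn]
      exact sum_congr rfl fun a _ => by rw [← hd, h.duad_add]; rfl
    rw [h1, sum_add_distrib, sum_const, h.smul_even (by rw [hb8]; decide), zero_add, ← map_sum]
    show ρ g (val o b) = 0
    rw [hb0, map_zero]
  let φ : H →* Cfsg.M24 :=
    ((Steiner.autEquiv e he).trans (MulEquiv.subgroupCongr Golay.M24_eq_octAut.symm)).toMonoidHom.comp
      (πh.codRestrict (setSystemAut (blocks o)) haut)
  have hφ : ∀ g K, (φ g : Equiv.Perm Cfsg.GolayPt) (e K) = e (π g K) := fun g K =>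
    Steiner.autEquiv_apply e he _ K
  have hfix : ∀ g, φ g = 1 ↔ ∀ a, ρ g a = a := by
    intro g
    constructor
    · intro hg
      have hK : ∀ K, π g K = K := fun K => e.injective (by rw [← hφ, hg]; rfl)
      have hd' : ∀ a b, ρ g (duad a b) = duad a b := fun a b => by rw [← hd, hK, hK]
      intro a
      have hS : ∀ a ∈ S, ρ g a = a := by
        intro t ht
        obtain ⟨u, hu⟩ := h.exists_nbr ht
        obtain ⟨e2, hne⟩ := h.two_stars ht hu
        let K1 : Pt S := ⟨star S t u, mem_stars.2 ⟨t, ht, u, hu, rfl⟩⟩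
        let K2 : Pt S := ⟨star S t (t + u), mem_stars.2 ⟨t, ht, _, h.partner ht hu, rfl⟩⟩
        rw [h.eq_duad (a := K1) (b := K2) (fun e => hne (congrArg Subtype.val e))
          (mem_insert_self _ _) (mem_insert_self _ _)]
        exact hd' _ _
      by_cases ha0 : a = 0
      · rw [ha0, map_zero]
      by_cases haS : a ∈ S
      · exact hS a haS
      obtain ⟨s, -, rfl⟩ := (h.pt_four o).1 a haS ha0
      rw [val, map_sum]
      exact sum_congr rfl fun b _ => hd' o b
    · intro hg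
      refine Subtype.ext (Equiv.ext fun p => ?_)
      obtain ⟨K, rfl⟩ := e.surjective p
      rw [hφ, show π g K = K from Subtype.ext
        (by rw [hπ, show (⇑(ρ g)) = id from funext hg, image_id])]
      rfl
  refine ⟨o, e, φ, he, hfix, fun g p q => ?_⟩
  obtain ⟨K, rfl⟩ := e.surjective p
  obtain ⟨L, rfl⟩ := e.surjective q
  rw [hφ, hφ, e.symm_apply_apply, e.symm_apply_apply, e.symm_apply_apply, e.symm_apply_apply]
  exact hd g K L

theorem Geom.pair_of_label {H : Type*} (e : Pt S ≃ Cfsg.GolayPt) (P : H → Equiv.Perm Cfsg.GolayPt)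
    (ρ : H → A ≃+ A)
    (hd : ∀ g p q, duad (e.symm (P g p)) (e.symm (P g q)) = ρ g (duad (e.symm p) (e.symm q)))
    {t : A} (ht : t ∈ S) :
    ∃ p q : Cfsg.GolayPt, p ≠ q ∧ ∀ g, (ρ g t = t ↔ (P g p = p ∧ P g q = q) ∨ (P g p = q ∧ P g q = p)) := by
  classical
  obtain ⟨u, hu⟩ := h.exists_nbr ht
  obtain ⟨e2, hne⟩ := h.two_stars ht hu
  let K1 : Pt S := ⟨star S t u, mem_stars.2 ⟨t, ht, u, hu, rfl⟩⟩
  let K2 : Pt S := ⟨star S t (t + u), mem_stars.2 ⟨t, ht, _, h.partner ht hu, rfl⟩⟩
  have h12 : K1 ≠ K2 := fun e => hne (congrArg Subtype.val e)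
  have htd : t = duad K1 K2 := h.eq_duad h12 (mem_insert_self _ _) (mem_insert_self _ _)
  refine ⟨e K1, e K2, fun e' => h12 (e.injective e'), fun g => ?_⟩
  have hg := hd g (e K1) (e K2)
  rw [e.symm_apply_apply, e.symm_apply_apply, ← htd] at hg
  set p1 := (P g) (e K1)
  set p2 := (P g) (e K2)
  have hne' : p1 ≠ p2 := fun q => h12 (e.injective ((P g).injective q))
  rw [← e.symm_apply_eq, ← e.symm_apply_eq, ← e.symm_apply_eq, ← e.symm_apply_eq, ← hg]
  have hPP : e.symm p1 ≠ e.symm p2 := fun q => hne' (e.symm.injective q)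
  constructor
  · intro hgt
    have hm := h.duad_mem hPP
    rw [hgt] at hm
    rcases h.pts_through h12 (mem_insert_self _ _) (mem_insert_self _ _) hm.2.1 with e1 | e1 <;>
      rcases h.pts_through h12 (mem_insert_self _ _) (mem_insert_self _ _) hm.2.2 with e3 | e3
    · exact absurd (e1.trans e3.symm) hPP
    · exact Or.inl ⟨e1, e3⟩
    · exact Or.inr ⟨e1, e3⟩
    · exact absurd (e1.trans e3.symm) hPP
  · rintro (⟨h1, h2⟩ | ⟨h1, h2⟩) <;> rw [htd, h1, h2]
    exact duad_comm _ _

theorem Geom.exists_hom {H : Type*} [Group H] (ρ : H → A ≃+ A)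
    (hmul : ∀ g k a, ρ (g * k) a = ρ g (ρ k a)) (hone : ∀ a, ρ 1 a = a)
    (hρ : ∀ g, ∀ a ∈ S, ρ g a ∈ S) :
    ∃ φ : H →* Cfsg.M24, (∀ g, φ g = 1 ↔ ∀ a, ρ g a = a) ∧
      ∀ t ∈ S, ∃ p q : Cfsg.GolayPt, p ≠ q ∧ ∀ g,
        (ρ g t = t ↔ ((φ g : Equiv.Perm Cfsg.GolayPt) p = p ∧ (φ g : Equiv.Perm Cfsg.GolayPt) q = q) ∨
          ((φ g : Equiv.Perm Cfsg.GolayPt) p = q ∧ (φ g : Equiv.Perm Cfsg.GolayPt) q = p)) := by
  obtain ⟨o, e, φ, -, hfix, hd⟩ := h.exists_hom_label ρ hmul hone hρ
  exact ⟨φ, hfix, fun t ht => h.pair_of_label e (fun g => (φ g : Equiv.Perm Cfsg.GolayPt)) ρ hd ht⟩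

end CfsgLib.DuadCode
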