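import Mathlib

/-!
A set of 276 vectors in a binary space of order 2048 in which two non-adjacent members have the
expected four common neighbours is the set of duads of 24 points: the stars.
-/

set_option autoImplicit false

namespace CfsgLib.DuadCode

open Finset

variable {A : Type*} [AddCommGroup A] [DecidableEq A]

/-- Neighbours: members with sum again a member. -/
def nbr (S : Finset A) (t : A) : Finset A := S.filter fun u => t + u ∈ S

/-- The hypotheses on the set. -/
structure Geom (S : Finset A) : Prop where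
  self : ∀ a : A, a + a = 0
  cardA : Nat.card A = 2048
  zero_notMem : (0 : A) ∉ S
  cardS : S.card = 276
  deg : ∀ t ∈ S, (nbr S t).card = 44
  four : ∀ t ∈ S, ∀ u ∈ S, ∀ w ∈ S, t + u ∈ S → t + w ∈ S → u ≠ w → u + w ∉ S →
    t + u + w ∈ S ∧
      ∀ x ∈ S, x + u ∈ S → x + w ∈ S → x = t ∨ x = t + u ∨ x = t + w ∨ x = t + u + w
  total : ∀ t ∈ S, 924 ≤
    ∑ u ∈ nbr S t, ((nbr S t).filter fun w => w ≠ u ∧ u + w ∉ S).card

/-- The star through an edge. -/
def star (S : Finset A) (t u : A) : Finset A :=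
  insert t (insert u ((nbr S t ∩ nbr S u).erase (t + u)))

variable {S : Finset A} (h : Geom S)

include h

theorem Geom.cancel (a b : A) : a + (a + b) = b := by rw [← add_assoc, h.self, zero_add]

theorem Geom.cancel' (a b : A) : a + b + b = a := by rw [add_assoc, h.self, add_zero]

theorem Geom.eq_of_sum {a b : A} (e : a + b = 0) : a = b := by
  rw [← add_zero a, ← h.self b, ← add_assoc, e, zero_add]

theorem Geom.ne_of_mem {a b : A} (e : a + b ∈ S) : a ≠ b := by
  rintro rfl; exact h.zero_notMem (h.self a ▸ e)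

theorem Geom.ne_zero {a : A} (ha : a ∈ S) : a ≠ 0 := fun e => h.zero_notMem (e ▸ ha)

omit h in
theorem mem_nbr {t u : A} : u ∈ nbr S t ↔ u ∈ S ∧ t + u ∈ S := mem_filter

/-- The opposite neighbour. -/
theorem Geom.partner {t u : A} (_ht : t ∈ S) (hu : u ∈ nbr S t) : t + u ∈ nbr S t := by
  rw [mem_nbr] at hu ⊢
  exact ⟨hu.2, by rw [h.cancel]; exact hu.1⟩

/-- Around a member, two opposite pairs have at most one non-edge at each vertex. -/
theorem Geom.at_most {t u w : A} (ht : t ∈ S) (hu : u ∈ nbr S t) (hw : w ∈ nbr S t) (hne : w ≠ u)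
    (hwu : u + w ∉ S) : u + (t + w) ∈ S := by
  rw [mem_nbr] at hu hw
  have := (h.four t ht u hu.1 w hw.1 hu.2 hw.2 hne.symm hwu).1
  rwa [show u + (t + w) = t + u + w by abel]

/-- Around a member, exactly one of two opposite vertices is adjacent to a third. -/
theorem Geom.exactly {t u w : A} (ht : t ∈ S) (hu : u ∈ nbr S t) (hw : w ∈ nbr S t) (hne : w ≠ u)
    (hne' : w ≠ t + u) : (u + w ∈ S ↔ u + (t + w) ∉ S) := by
  set N := nbr S t with hN
  let W : A → Finset A := fun a => N.filter fun b => b ≠ a ∧ a + b ∉ S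
  let W' : A → Finset A := fun a => (W a).image fun b => t + b
  have hWc : ∀ a, (W' a).card = (W a).card := fun a =>
    card_image_of_injective _ (add_right_injective t)
  have hsub : ∀ a ∈ N, W a ∪ W' a ⊆ (N.erase a).erase (t + a) ∧ Disjoint (W a) (W' a) := by
    intro a ha
    refine ⟨?_, ?_⟩
    · intro b hb
      rcases mem_union.1 hb with hb | hb
      · obtain ⟨h1, h2, h3⟩ := mem_filter.1 hb
        refine mem_erase.2 ⟨?_, mem_erase.2 ⟨h2, h1⟩⟩
        rintro rfl
        rw [show a + (t + a) = t + (a + a) by abel, h.self, add_zero] at h3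
        exact h3 ht
      · obtain ⟨c, hc, rfl⟩ := mem_image.1 hb
        obtain ⟨h1, h2, h3⟩ := mem_filter.1 hc
        refine mem_erase.2 ⟨fun e => h2 (add_left_cancel e), mem_erase.2 ⟨fun e => ?_, h.partner ht h1⟩⟩
        subst e
        rw [show t + c + c = t + (c + c) by abel, h.self, add_zero] at h3
        exact h3 ht
    · rw [disjoint_left]
      intro b hb hb'
      obtain ⟨c, hc, rfl⟩ := mem_image.1 hb'
      obtain ⟨h1, h2, h3⟩ := mem_filter.1 hc
      exact (mem_filter.1 hb).2.2 (h.at_most ht ha h1 h2 h3)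
  have hle : ∀ a ∈ N, (W a).card ≤ 21 := by
    intro a ha
    obtain ⟨hs, hd⟩ := hsub a ha
    have h1 := card_le_card hs
    rw [card_union_of_disjoint hd, hWc] at h1
    have hpa : t + a ∈ N.erase a :=
      mem_erase.2 ⟨fun e => h.ne_zero ht (add_eq_right.1 e), h.partner ht ha⟩
    rw [card_erase_of_mem hpa, card_erase_of_mem ha, hN, h.deg t ht] at h1
    omega
  have hsum : ∑ a ∈ N, (W a).card = ∑ _a ∈ N, 21 := by
    refine le_antisymm (sum_le_sum hle) ?_
    rw [sum_const, smul_eq_mul, hN, h.deg t ht]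
    exact h.total t ht
  have h21 : (W u).card = 21 := (sum_eq_sum_iff_of_le hle).1 hsum u hu
  obtain ⟨hs, hd⟩ := hsub u hu
  have heq : W u ∪ W' u = (N.erase u).erase (t + u) := by
    refine eq_of_subset_of_card_le hs ?_
    have hpa : t + u ∈ N.erase u :=
      mem_erase.2 ⟨fun e => h.ne_zero ht (add_eq_right.1 e), h.partner ht hu⟩
    rw [card_union_of_disjoint hd, hWc, h21, card_erase_of_mem hpa, card_erase_of_mem hu, hN,
      h.deg t ht]
  have hwm : w ∈ W u ∪ W' u := by rw [heq]; exact mem_erase.2 ⟨hne', mem_erase.2 ⟨hne, hw⟩⟩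
  constructor
  · intro h1 h2
    rcases mem_union.1 hwm with hb | hb
    · exact (mem_filter.1 hb).2.2 h1
    · obtain ⟨c, hc, e⟩ := mem_image.1 hb
      obtain ⟨-, -, h3⟩ := mem_filter.1 hc
      refine h3 ?_
      rwa [← e, h.cancel] at h2
  · intro h1
    by_contra h2
    exact h1 (h.at_most ht hu hw hne h2)

/-- Two further common neighbours of an edge are adjacent. -/
theorem Geom.edge_common {t u x y : A} (ht : t ∈ S) (hu : u ∈ nbr S t)
    (hx : x ∈ (nbr S t ∩ nbr S u).erase (t + u)) (hy : y ∈ (nbr S t ∩ nbr S u).erase (t + u))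
    (hxy : x ≠ y) : x + y ∈ S ∧ y ≠ t + x := by
  obtain ⟨hx0, hx'⟩ := mem_erase.1 hx
  obtain ⟨hxt, hxu⟩ := mem_inter.1 hx'
  obtain ⟨hy0, hy'⟩ := mem_erase.1 hy
  obtain ⟨hyt, hyu⟩ := mem_inter.1 hy'
  have hxu' := (mem_nbr.1 hxu).2
  have hyu' := (mem_nbr.1 hyu).2
  have hxne : x ≠ u := (h.ne_of_mem hxu').symm
  have hne : y ≠ t + x := by
    intro e
    subst e
    exact (h.exactly ht hu hxt hxne hx0).1 hxu' hyu'
  refine ⟨?_, hne⟩
  by_contra hc
  rcases (h.four t ht x (mem_nbr.1 hxt).1 y (mem_nbr.1 hyt).1 (mem_nbr.1 hxt).2 (mem_nbr.1 hyt).2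
    hxy hc).2 u (mem_nbr.1 hu).1 hxu' hyu' with e | e | e | e
  · exact h.ne_of_mem (mem_nbr.1 hu).2 e.symm
  · exact hx0 (by rw [e, h.cancel])
  · exact hy0 (by rw [e, h.cancel])
  · refine hc ?_
    have : t + u = x + y := by rw [e, show t + (t + x + y) = t + (t + (x + y)) by abel, h.cancel]
    exact this ▸ (mem_nbr.1 hu).2

omit h in
theorem star_comm (t u : A) : star S t u = star S u t := by
  rw [star, star, Finset.insert_comm, inter_comm, add_comm t u]

omit h in
theorem mem_star_nbr' {t u x : A} (_ : t ∈ S) (hu : u ∈ nbr S t) (hx : x ∈ star S t u)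
    (hxt : x ≠ t) : x ∈ nbr S t := by
  rw [star, mem_insert, mem_insert] at hx
  rcases hx with e | rfl | hx
  · exact absurd e hxt
  · exact hu
  · exact (mem_inter.1 (mem_erase.1 hx).2).1

theorem Geom.star_subset_S {t u : A} (ht : t ∈ S) (hu : u ∈ nbr S t) : star S t u ⊆ S := by
  intro x hx
  by_cases e : x = t
  · exact e ▸ ht
  · exact (mem_nbr.1 (mem_star_nbr' ht hu hx e)).1

theorem Geom.card_star {t u : A} (ht : t ∈ S) (hu : u ∈ nbr S t) : (star S t u).card = 23 := by
  set N := nbr S t with hN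
  set X := (N ∩ nbr S u).erase (t + u) with hX
  let Y := X.image fun b => t + b
  have hpa : t + u ∈ N.erase u :=
    mem_erase.2 ⟨fun e => h.ne_zero ht (add_eq_right.1 e), h.partner ht hu⟩
  have hXY : X ∪ Y = (N.erase u).erase (t + u) := by
    ext b
    constructor
    · intro hb
      rcases mem_union.1 hb with hb | hb
      · obtain ⟨h1, h2⟩ := mem_erase.1 hb
        obtain ⟨h3, h4⟩ := mem_inter.1 h2
        exact mem_erase.2 ⟨h1, mem_erase.2 ⟨(h.ne_of_mem (mem_nbr.1 h4).2).symm, h3⟩⟩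
      · obtain ⟨c, hc, rfl⟩ := mem_image.1 hb
        obtain ⟨h1, h2⟩ := mem_erase.1 hc
        obtain ⟨h3, h4⟩ := mem_inter.1 h2
        exact mem_erase.2 ⟨fun e => h.ne_of_mem (mem_nbr.1 h4).2 (add_left_cancel e).symm,
          mem_erase.2 ⟨fun e => h1 (by rw [← e, h.cancel]), h.partner ht h3⟩⟩
    · intro hb
      obtain ⟨h1, h2⟩ := mem_erase.1 hb
      obtain ⟨h3, h4⟩ := mem_erase.1 h2
      by_cases hub : u + b ∈ S
      · exact mem_union_left _ (mem_erase.2 ⟨h1, mem_inter.2 ⟨h4, mem_nbr.2 ⟨(mem_nbr.1 h4).1, hub⟩⟩⟩)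
      · refine mem_union_right _ (mem_image.2 ⟨t + b, mem_erase.2 ⟨fun e => h3 (add_left_cancel e),
          mem_inter.2 ⟨h.partner ht h4, mem_nbr.2 ⟨(mem_nbr.1 h4).2, h.at_most ht hu h4 h3 hub⟩⟩⟩, h.cancel t b⟩)
  have hd : Disjoint X Y := by
    rw [disjoint_left]
    intro b hb hb'
    obtain ⟨c, hc, e⟩ := mem_image.1 hb'
    obtain ⟨h1, h2⟩ := mem_erase.1 hc
    obtain ⟨h3, h4⟩ := mem_inter.1 h2
    obtain ⟨-, h6⟩ := mem_erase.1 hb
    refine (h.exactly ht hu h3 (h.ne_of_mem (mem_nbr.1 h4).2).symm h1).1 (mem_nbr.1 h4).2 ?_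
    rw [e]
    exact (mem_nbr.1 (mem_inter.1 h6).2).2
  have h1 := congrArg Finset.card hXY
  rw [card_union_of_disjoint hd, card_image_of_injective _ (add_right_injective t),
    card_erase_of_mem hpa, card_erase_of_mem hu, hN, h.deg t ht] at h1
  have hutX : u ∉ X := fun e => h.ne_of_mem (mem_nbr.1 (mem_inter.1 (mem_erase.1 e).2).2).2 rfl
  have htX : t ∉ insert u X := by
    rw [mem_insert]
    rintro (e | e)
    · exact h.ne_of_mem (mem_nbr.1 hu).2 e
    · exact h.ne_of_mem (mem_nbr.1 (mem_inter.1 (mem_erase.1 e).2).1).2 rfl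
  rw [star, ← hN, ← hX, card_insert_of_notMem htX, card_insert_of_notMem hutX]
  omega

/-- A star is the star of each of its edges at the first vertex. -/
theorem Geom.star_change {t u x : A} (ht : t ∈ S) (hu : u ∈ nbr S t) (hx : x ∈ star S t u)
    (hxt : x ≠ t) : star S t x = star S t u := by
  have hxn := mem_star_nbr' ht hu hx hxt
  refine (eq_of_subset_of_card_le ?_ (by rw [h.card_star ht hu, h.card_star ht hxn])).symm
  intro y hy
  by_cases hyt : y = t
  · subst hyt; exact mem_insert_self _ _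
  by_cases hyx : y = x
  · subst hyx; exact mem_insert_of_mem (mem_insert_self _ _)
  refine mem_insert_of_mem (mem_insert_of_mem ?_)
  rw [star, mem_insert, mem_insert] at hx hy
  have hyn := mem_star_nbr' ht hu (by rw [star, mem_insert, mem_insert]; exact hy) hyt
  suffices x + y ∈ S ∧ y ≠ t + x from
    mem_erase.2 ⟨this.2, mem_inter.2 ⟨hyn, mem_nbr.2 ⟨(mem_nbr.1 hyn).1, this.1⟩⟩⟩
  rcases hx with e | rfl | hx
  · exact absurd e hxt
  · rcases hy with e | e | hy
    · exact absurd e hyt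
    · exact absurd e hyx
    · exact ⟨(mem_nbr.1 (mem_inter.1 (mem_erase.1 hy).2).2).2, (mem_erase.1 hy).1⟩
  · rcases hy with e | rfl | hy
    · exact absurd e hyt
    · refine ⟨?_, ?_⟩
      · rw [add_comm]; exact (mem_nbr.1 (mem_inter.1 (mem_erase.1 hx).2).2).2
      · intro e
        exact (mem_erase.1 hx).1 (by rw [e, h.cancel])
    · exact h.edge_common ht hu hx hy (Ne.symm hyx)

/-- A star is the star of each of its edges. -/
theorem Geom.star_eq {t u a b : A} (ht : t ∈ S) (hu : u ∈ nbr S t) (ha : a ∈ star S t u)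
    (hb : b ∈ star S t u) (hab : a ≠ b) : a + b ∈ S ∧ star S a b = star S t u := by
  by_cases hat : a = t
  · subst hat
    exact ⟨(mem_nbr.1 (mem_star_nbr' ht hu hb hab.symm)).2, h.star_change ht hu hb hab.symm⟩
  · have han := mem_star_nbr' ht hu ha hat
    have e1 := h.star_change ht hu ha hat
    have hna : t ∈ nbr S a := mem_nbr.2 ⟨ht, by rw [add_comm]; exact (mem_nbr.1 han).2⟩
    have haS := (mem_nbr.1 han).1
    rw [← e1, star_comm] at hb
    exact ⟨(mem_nbr.1 (mem_star_nbr' haS hna hb hab.symm)).2,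
      by rw [h.star_change haS hna hb hab.symm, star_comm, e1]⟩

/-- The sum of two members of a star lies outside it. -/
theorem Geom.sum_notMem_star {t u : A} (ht : t ∈ S) (hu : u ∈ nbr S t) :
    t + u ∉ star S t u := by
  rw [star, mem_insert, mem_insert]
  rintro (e | e | e)
  · exact h.ne_zero (mem_nbr.1 hu).1 (add_eq_left.1 e)
  · exact h.ne_zero ht (add_eq_right.1 e)
  · exact (mem_erase.1 e).1 rfl

end CfsgLib.DuadCode
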