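import Cfsg.Agent.DuadCode.Graph

/-!
The stars are 24 points, the members are their duads, and the sum map on sets of points.
-/

set_option autoImplicit false

namespace CfsgLib.DuadCode

open Finset

variable {A : Type*} [AddCommGroup A] [DecidableEq A]

/-- The points: all stars. -/
def stars (S : Finset A) : Finset (Finset A) := S.biUnion fun t => (nbr S t).image (star S t)

/-- The points as a type. -/
abbrev Pt (S : Finset A) : Type _ := ↥(stars S)

variable {S : Finset A}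

/-- The duad of two points. -/
def duad (a b : Pt S) : A := if a = b then 0 else ∑ x ∈ a.1 ∩ b.1, x

/-- The sum map with a base point. -/
def val (o : Pt S) (s : Finset (Pt S)) : A := ∑ a ∈ s, duad o a

variable (h : Geom S)

include h

theorem Geom.exists_nbr {t : A} (ht : t ∈ S) : ∃ u, u ∈ nbr S t := by
  have := h.deg t ht
  exact (card_pos.1 (by omega : 0 < (nbr S t).card))

omit h in
theorem mem_stars {K : Finset A} : K ∈ stars S ↔ ∃ t ∈ S, ∃ u ∈ nbr S t, star S t u = K := by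
  simp [stars]

theorem Geom.star_of_edge (K : Pt S) {a b : A} (ha : a ∈ K.1) (hb : b ∈ K.1) (hab : a ≠ b) :
    a ∈ S ∧ b ∈ nbr S a ∧ star S a b = K.1 := by
  obtain ⟨t, ht, u, hu, e⟩ := mem_stars.1 K.2
  rw [← e] at ha hb ⊢
  obtain ⟨h1, h2⟩ := h.star_eq ht hu ha hb hab
  exact ⟨h.star_subset_S ht hu ha, mem_nbr.2 ⟨h.star_subset_S ht hu hb, h1⟩, h2⟩

theorem Geom.card_pt (K : Pt S) : K.1.card = 23 := by
  obtain ⟨t, ht, u, hu, e⟩ := mem_stars.1 K.2
  rw [← e, h.card_star ht hu]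

theorem Geom.pt_subset (K : Pt S) : K.1 ⊆ S := by
  obtain ⟨t, ht, u, hu, e⟩ := mem_stars.1 K.2
  exact e ▸ h.star_subset_S ht hu

theorem Geom.pt_sum (K : Pt S) {a b : A} (ha : a ∈ K.1) (hb : b ∈ K.1) (hab : a ≠ b) :
    a + b ∈ S ∧ a + b ∉ K.1 := by
  obtain ⟨h1, h2, h3⟩ := h.star_of_edge K ha hb hab
  exact ⟨(mem_nbr.1 h2).2, h3 ▸ h.sum_notMem_star h1 h2⟩

/-- A member lies in exactly two stars. -/
theorem Geom.two_stars {t u : A} (ht : t ∈ S) (hu : u ∈ nbr S t) :
    (stars S).filter (t ∈ ·) = {star S t u, star S t (t + u)} ∧ star S t u ≠ star S t (t + u) := by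
  have hp := h.partner ht hu
  refine ⟨?_, fun e => h.sum_notMem_star ht hu (e ▸ mem_insert_of_mem (mem_insert_self _ _))⟩
  ext K
  rw [mem_filter, mem_insert, mem_singleton]
  constructor
  · rintro ⟨hK, htK⟩
    obtain ⟨x, hx, hxt⟩ : ∃ x ∈ K, x ≠ t :=
      exists_mem_ne (by rw [h.card_pt ⟨K, hK⟩]; norm_num) t
    obtain ⟨-, hxn, e⟩ := h.star_of_edge ⟨K, hK⟩ htK hx hxt.symm
    subst e
    have aux : ∀ v ∈ nbr S t, v + x ∈ S → x ≠ t + v → star S t x = star S t v := by
      intro v hv hvx hne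
      exact h.star_change ht hv (mem_insert_of_mem (mem_insert_of_mem (mem_erase.2
        ⟨hne, mem_inter.2 ⟨hxn, mem_nbr.2 ⟨(mem_nbr.1 hxn).1, hvx⟩⟩⟩))) hxt
    by_cases hxu : x = u
    · left; rw [hxu]
    by_cases hxp : x = t + u
    · right; rw [hxp]
    by_cases hs : u + x ∈ S
    · exact Or.inl (aux u hu hs hxp)
    · right
      refine aux _ hp ?_ (by rw [h.cancel]; exact hxu)
      rw [show t + u + x = u + (t + x) by abel]
      exact h.at_most ht hu hxn hxu hs
  · rintro (rfl | rfl)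
    · exact ⟨mem_stars.2 ⟨t, ht, u, hu, rfl⟩, mem_insert_self _ _⟩
    · exact ⟨mem_stars.2 ⟨t, ht, _, hp, rfl⟩, mem_insert_self _ _⟩

theorem Geom.card_through {t : A} (ht : t ∈ S) : ((stars S).filter (t ∈ ·)).card = 2 := by
  obtain ⟨u, hu⟩ := h.exists_nbr ht
  obtain ⟨e, hne⟩ := h.two_stars ht hu
  rw [e, card_pair hne]

theorem Geom.card_stars : (stars S).card = 24 := by
  have h1 := sum_card_bipartiteAbove_eq_sum_card_bipartiteBelow (s := S) (t := stars S)
    (fun t (K : Finset A) => t ∈ K)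
  have h2 : ∑ t ∈ S, ((stars S).bipartiteAbove (fun t (K : Finset A) => t ∈ K) t).card = 276 * 2 := by
    exact (sum_congr rfl (g := fun _ => 2) fun t ht => h.card_through ht).trans
      (by rw [sum_const, smul_eq_mul, h.cardS])
  have h3 : ∑ K ∈ stars S, (S.bipartiteBelow (fun t (K : Finset A) => t ∈ K) K).card =
      (stars S).card * 23 := by
    refine (sum_congr rfl (g := fun _ => 23) fun K hK => ?_).trans (by rw [sum_const, smul_eq_mul])
    have : S.bipartiteBelow (fun t (K : Finset A) => t ∈ K) K = K := by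
      ext x; simp only [bipartiteBelow, mem_filter]
      exact ⟨fun e => e.2, fun e => ⟨h.pt_subset ⟨K, hK⟩ e, e⟩⟩
    rw [this]; exact h.card_pt ⟨K, hK⟩
  omega

theorem Geom.card_Pt : Fintype.card (Pt S) = 24 := by rw [Fintype.card_coe, h.card_stars]

theorem Geom.meet_unique {a b : Pt S} (hab : a ≠ b) {x y : A} (hx : x ∈ a.1 ∩ b.1)
    (hy : y ∈ a.1 ∩ b.1) : x = y := by
  by_contra hne
  rw [mem_inter] at hx hy
  exact hab (Subtype.ext ((h.star_of_edge a hx.1 hy.1 hne).2.2.symm.trans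
    (h.star_of_edge b hx.2 hy.2 hne).2.2))

theorem Geom.meet_exists {a b : Pt S} (hab : a ≠ b) : ∃ x, x ∈ a.1 ∩ b.1 := by
  have hsurj := surj_on_of_inj_on_of_card_le (s := S) (t := (stars S).powersetCard 2)
    (fun t _ => (stars S).filter (t ∈ ·))
    (fun t ht => mem_powersetCard.2 ⟨filter_subset _ _, h.card_through ht⟩)
    (fun t1 t2 h1 h2 e => ?_) (by rw [card_powersetCard, h.card_stars, h.cardS]; rfl)
    {a.1, b.1} (mem_powersetCard.2 ⟨by simp [insert_subset_iff],
      card_pair fun e => hab (Subtype.ext e)⟩)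
  · obtain ⟨t, -, e⟩ := hsurj
    have ha : a.1 ∈ (stars S).filter (t ∈ ·) := by rw [← e]; simp
    have hb : b.1 ∈ (stars S).filter (t ∈ ·) := by rw [← e]; simp
    exact ⟨t, mem_inter.2 ⟨(mem_filter.1 ha).2, (mem_filter.1 hb).2⟩⟩
  · obtain ⟨u, hu⟩ := h.exists_nbr h1
    obtain ⟨e1, hne⟩ := h.two_stars h1 hu
    simp only [e1] at e
    have m1 : star S t1 u ∈ (stars S).filter (t2 ∈ ·) := by rw [← e]; simp
    have m2 : star S t1 (t1 + u) ∈ (stars S).filter (t2 ∈ ·) := by rw [← e]; simp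
    rw [mem_filter] at m1 m2
    by_contra hne12
    refine hne ?_
    have s1 := (h.star_eq h1 hu (mem_insert_self _ _) m1.2 hne12).2
    have s2 := (h.star_eq h1 (h.partner h1 hu) (mem_insert_self _ _) m2.2 hne12).2
    rw [← s1, s2]

omit h in
theorem duad_self (a : Pt S) : duad a a = 0 := if_pos rfl

omit h in
theorem duad_comm (a b : Pt S) : duad a b = duad b a := by
  by_cases e : a = b
  · rw [e]
  · rw [duad, duad, if_neg e, if_neg (Ne.symm e), inter_comm]

theorem Geom.duad_mem {a b : Pt S} (hab : a ≠ b) :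
    duad a b ∈ S ∧ duad a b ∈ a.1 ∧ duad a b ∈ b.1 := by
  obtain ⟨x, hx⟩ := h.meet_exists hab
  have e : a.1 ∩ b.1 = {x} := eq_singleton_iff_unique_mem.2 ⟨hx, fun y hy => h.meet_unique hab hy hx⟩
  have hd : duad a b = x := by rw [duad, if_neg hab, e, sum_singleton]
  rw [mem_inter] at hx
  rw [hd]
  exact ⟨h.pt_subset a hx.1, hx.1, hx.2⟩

theorem Geom.eq_duad {a b : Pt S} (hab : a ≠ b) {x : A} (ha : x ∈ a.1) (hb : x ∈ b.1) :
    x = duad a b :=
  h.meet_unique hab (mem_inter.2 ⟨ha, hb⟩)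
    (mem_inter.2 ⟨(h.duad_mem hab).2.1, (h.duad_mem hab).2.2⟩)

theorem Geom.pts_through {a b c : Pt S} (hab : a ≠ b) {x : A} (ha : x ∈ a.1) (hb : x ∈ b.1)
    (hc : x ∈ c.1) : c = a ∨ c = b := by
  by_contra hh
  rw [not_or] at hh
  have h2 := h.card_through (h.pt_subset a ha)
  have h3 : ({a.1, b.1, c.1} : Finset (Finset A)).card = 3 :=
    card_eq_three.2 ⟨a.1, b.1, c.1, fun e => hab (Subtype.ext e),
      fun e => hh.1 (Subtype.ext e).symm, fun e => hh.2 (Subtype.ext e).symm, rfl⟩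
  have h4 : ({a.1, b.1, c.1} : Finset (Finset A)) ⊆ (stars S).filter (x ∈ ·) := by
    intro K hK
    simp only [mem_insert, mem_singleton] at hK
    rcases hK with rfl | rfl | rfl
    · exact mem_filter.2 ⟨a.2, ha⟩
    · exact mem_filter.2 ⟨b.2, hb⟩
    · exact mem_filter.2 ⟨c.2, hc⟩
  have := card_le_card h4
  omega

theorem Geom.duad_ne {a b c : Pt S} (hab : a ≠ b) (hac : a ≠ c) (hbc : b ≠ c) :
    duad a b ≠ duad a c := fun e =>
  (h.pts_through hab (h.duad_mem hab).2.1 (h.duad_mem hab).2.2 (e ▸ (h.duad_mem hac).2.2)).elim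
    hac.symm hbc.symm

theorem Geom.duad_add (a b c : Pt S) : duad a b + duad b c = duad a c := by
  by_cases hab : a = b
  · subst hab; rw [duad_self, zero_add]
  by_cases hbc : b = c
  · subst hbc; rw [duad_self, add_zero]
  by_cases hac : a = c
  · subst hac; rw [duad_comm b a, h.self, duad_self]
  have hba := Ne.symm hab
  obtain ⟨h1, h2, h3⟩ := h.duad_mem hba
  obtain ⟨h4, h5, h6⟩ := h.duad_mem hbc
  have hne := h.duad_ne hba hbc hac
  obtain ⟨hS, hnb⟩ := h.pt_sum b h2 h5 hne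
  have key : ∀ {x y : A} {p q : Pt S}, p ≠ q → x ∈ S → x ∈ p.1 → x ∈ q.1 → y ∈ nbr S x →
      x + y ∉ p.1 → x + y ∈ q.1 := by
    intro x y p q hpq hx hxp hxq hy hnp
    have hpm := h.partner hx hy
    have hK : star S x (x + y) ∈ stars S := mem_stars.2 ⟨x, hx, _, hpm, rfl⟩
    have hm : x + y ∈ (⟨_, hK⟩ : Pt S).1 := mem_insert_of_mem (mem_insert_self _ _)
    rcases h.pts_through hpq hxp hxq (c := ⟨_, hK⟩) (mem_insert_self _ _) with e | e
    · rw [e] at hm; exact absurd hm hnp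
    · rw [e] at hm; exact hm
  have ha : duad b a + duad b c ∈ a.1 := key hba h1 h2 h3 (mem_nbr.2 ⟨h4, hS⟩) hnb
  have hc : duad b a + duad b c ∈ c.1 := by
    rw [add_comm] at hS hnb ⊢
    exact key hbc h4 h5 h6 (mem_nbr.2 ⟨h1, hS⟩) hnb
  rw [duad_comm a b]
  exact h.eq_duad hac ha hc

/-- Disjoint duads are not adjacent. -/
theorem Geom.disjoint_sum {a b c e : Pt S} (hab : a ≠ b) (hce : c ≠ e) (hac : a ≠ c) (hae : a ≠ e)
    (hbc : b ≠ c) (hbe : b ≠ e) : duad a b + duad c e ∉ S ∧ duad a b + duad c e ≠ 0 := by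
  obtain ⟨h1, h2, h3⟩ := h.duad_mem hab
  obtain ⟨h4, h5, h6⟩ := h.duad_mem hce
  have hne : duad a b ≠ duad c e := fun e' =>
    (h.pts_through hab h2 h3 (e' ▸ h5)).elim hac.symm hbc.symm
  refine ⟨fun hS => ?_, fun e' => hne (h.eq_of_sum e')⟩
  have hn : duad c e ∈ nbr S (duad a b) := mem_nbr.2 ⟨h4, hS⟩
  let K : Pt S := ⟨_, mem_stars.2 ⟨_, h1, _, hn, rfl⟩⟩
  have k1 : duad a b ∈ K.1 := mem_insert_self _ _
  have k2 : duad c e ∈ K.1 := mem_insert_of_mem (mem_insert_self _ _)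
  rcases h.pts_through hab h2 h3 k1 with e1 | e1 <;>
    rcases h.pts_through hce h5 h6 k2 with e2 | e2
  · exact hac (e1.symm.trans e2)
  · exact hae (e1.symm.trans e2)
  · exact hbc (e1.symm.trans e2)
  · exact hbe (e1.symm.trans e2)

theorem Geom.val_symmDiff (o : Pt S) (s t : Finset (Pt S)) :
    val o (symmDiff s t) = val o s + val o t := by
  have h1 : val o (symmDiff s t) = val o (s \ t) + val o (t \ s) :=
    sum_union disjoint_sdiff_sdiff
  have h2 : val o s = val o (s \ t) + val o (s ∩ t) := by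
    rw [val, val, val, ← sum_union (disjoint_sdiff_inter s t), sdiff_union_inter]
  have h3 : val o t = val o (t \ s) + val o (s ∩ t) := by
    rw [inter_comm, val, val, val, ← sum_union (disjoint_sdiff_inter t s), sdiff_union_inter]
  rw [h1, h2, h3, show ∀ x y z : A, x + z + (y + z) = x + y + (z + z) from fun x y z => by abel,
    h.self, add_zero]

theorem Geom.val_insert_two (o : Pt S) {a b : Pt S} {s : Finset (Pt S)} (hab : a ≠ b)
    (ha : a ∉ s) (hb : b ∉ s) : val o (insert a (insert b s)) = duad a b + val o s := by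
  rw [val, sum_insert (by simp [hab, ha]), sum_insert hb, ← add_assoc, duad_comm o a,
    h.duad_add a o b]
  rfl

omit h in
theorem split_two {α : Type*} [DecidableEq α] {s : Finset α} {n : ℕ} (hs : s.card = n + 2) :
    ∃ a b r, a ≠ b ∧ a ∉ r ∧ b ∉ r ∧ r.card = n ∧ s = insert a (insert b r) := by
  obtain ⟨a, ha⟩ := card_pos.1 (by omega : 0 < s.card)
  obtain ⟨b, hb⟩ := card_pos.1 (by rw [card_erase_of_mem ha]; omega : 0 < (s.erase a).card)
  refine ⟨a, b, (s.erase a).erase b, fun e => ?_, fun e => ?_, notMem_erase _ _, ?_, ?_⟩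
  · exact (mem_erase.1 hb).1 e.symm
  · exact (mem_erase.1 (mem_erase.1 e).2).1 rfl
  · rw [card_erase_of_mem hb, card_erase_of_mem ha]; omega
  · rw [insert_erase hb, insert_erase ha]

theorem Geom.val_two (o : Pt S) {s : Finset (Pt S)} (hs : s.card = 2) : val o s ∈ S := by
  obtain ⟨a, b, r, hab, ha, hb, hr, rfl⟩ := split_two hs
  rw [h.val_insert_two o hab ha hb, card_eq_zero.1 hr, val, sum_empty, add_zero]
  exact (h.duad_mem hab).1

theorem Geom.val_four (o : Pt S) {s : Finset (Pt S)} (hs : s.card = 4) :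
    val o s ∉ S ∧ val o s ≠ 0 := by
  obtain ⟨a, b, r, hab, ha, hb, hr, rfl⟩ := split_two hs
  obtain ⟨c, e, r', hce, hc, he, hr', rfl⟩ := split_two hr
  rw [h.val_insert_two o hab ha hb, h.val_insert_two o hce hc he, card_eq_zero.1 hr', val, sum_empty,
    add_zero]
  simp only [mem_insert, not_or] at ha hb
  exact h.disjoint_sum hab hce ha.1 ha.2.1 hb.1 hb.2.1

/-- No word of weight two, four or six sums to zero. -/
theorem Geom.val_small (o : Pt S) {s : Finset (Pt S)} (hs : s.card = 2 ∨ s.card = 4 ∨ s.card = 6) :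
    val o s ≠ 0 := by
  rcases hs with hs | hs | hs
  · exact h.ne_zero (h.val_two o hs)
  · exact (h.val_four o hs).2
  · obtain ⟨a, b, r, hab, ha, hb, hr, rfl⟩ := split_two hs
    rw [h.val_insert_two o hab ha hb]
    intro e
    exact (h.val_four o hr).1 (h.eq_of_sum e ▸ (h.duad_mem hab).1)

end CfsgLib.DuadCode
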